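import Groth.Agent.Lib.Special17.Split
import Groth.Agent.Lib.ModelK.Basic
import Groth.Agent.Lib.Lambda.Split

/-!
# `K` of a quasi-compact scheme is a special λ-ring
-/

set_option autoImplicit false
set_option backward.isDefEq.respectTransparency false
set_option linter.style.haveILetI false

universe v u

open AlgebraicGeometry CategoryTheory CategoryTheory.Limits LambdaRing MvPolynomial
open GrothLib.Lambda

noncomputable section

namespace GrothLib.Special17

section Criterion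

variable {L : Type v} [CommRing L] [LambdaOps L] (G : Submonoid L)
  (hG : ∀ v ∈ G, ∀ j, 2 ≤ j → LambdaOps.lam j v = 0)

/-- The map from the λ-ring of lines. -/
def gEval : MvPolynomial (LVar {v : L // v ∈ G}) ℤ →+* L :=
  eval₂Hom (Int.castRingHom L) fun p => (p.idx : L) - 1

include hG in
theorem commutes_gEval : Commutes (gEval G) := by
  let good : Submonoid (MvPolynomial (LVar {v : L // v ∈ G}) ℤ) :=
    { carrier := {t | (∀ k, 1 ≤ k → adamsOp k t = t ^ k) ∧ gEval G t ∈ G}
      one_mem' := ⟨fun k hk => (adamsOp_line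
        (isSpecial_LK ℤ _).lam_one_eq_zero hk), by rw [map_one]; exact one_mem G⟩
      mul_mem' := fun {a b} ha hb => ⟨fun k hk => by
          rw [(psi_identities (isSpecial_LK ℤ _) a b).1 k hk, ha.1 k hk, hb.1 k hk, mul_pow],
        by rw [map_mul]; exact mul_mem ha.2 hb.2⟩ }
  have hgood : ∀ t ∈ good, t ∈ commutesAddSubgroup (gEval G) := fun t ht => by
    refine commutesAddSubgroup_line _ (fun j hj => embL_injective ℤ _ ?_) fun j hj => hG _ ht.2 j hj
    rw [commutes_embL, map_zero, lam_eq_ofPsi, ofPsi_congr (b := fun k => embL ℤ _ t ^ k)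
      fun k hk _ => by rw [← (commutes_embL ℤ _).adamsOp, ht.1 k hk, map_pow], ofPsi_pow]
    obtain ⟨i, rfl⟩ := Nat.exists_eq_add_of_le' hj
    rfl
  suffices key : ∀ p, ∀ t ∈ good, p * t ∈ commutesAddSubgroup (gEval G) from fun n x => by
    have := key x 1 (one_mem good) n
    rwa [mul_one] at this
  intro p
  induction p using MvPolynomial.induction_on with
  | C c =>
    intro t ht
    rw [show (C c : MvPolynomial (LVar {v : L // v ∈ G}) ℤ) * t = c • t by
      rw [zsmul_eq_mul, eq_intCast (C : ℤ →+* MvPolynomial (LVar {v : L // v ∈ G}) ℤ) c]]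
    exact zsmul_mem (hgood t ht) c
  | add p q hp hq => intro t ht; rw [add_mul]; exact add_mem (hp t ht) (hq t ht)
  | mul_X p i hp =>
    intro t ht
    have hi : (1 + X i : MvPolynomial (LVar {v : L // v ∈ G}) ℤ) ∈ good :=
      ⟨fun k hk => adamsOp_line (fun j hj => lam_line_LK ℤ _ i hj) hk, by simp [gEval]⟩
    rw [show p * X i * t = p * ((1 + X i) * t) - p * t by ring]
    exact sub_mem (hp _ (mul_mem hi ht)) (hp t ht)

theorem mem_range_gEval {x : L} (hx : x ∈ AddSubgroup.closure (G : Set L)) : ∃ X, gEval G X = x := by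
  induction hx using AddSubgroup.closure_induction with
  | mem v hv => exact ⟨1 + X ⟨⟨v, hv⟩⟩, by simp [gEval]⟩
  | zero => exact ⟨0, map_zero _⟩
  | add _ _ _ _ ha hb =>
    obtain ⟨a, rfl⟩ := ha
    obtain ⟨b, rfl⟩ := hb
    exact ⟨a + b, map_add _ a b⟩
  | neg _ _ ha =>
    obtain ⟨a, rfl⟩ := ha
    exact ⟨-a, map_neg _ a⟩

end Criterion

/-- A λ-ring in which pairs split is special. -/
theorem isSpecial_of_split {K : Type v} [CommRing K] [LambdaOps K] (h1 : ∀ j, 2 ≤ j → LambdaOps.lam j (1 : K) = 0)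
    (h : ∀ x y : K, ∃ (L : Type (u + 1)) (_ : CommRing L) (_ : LambdaOps L) (G : Submonoid L)
      (f : K →+* L), (∀ w ∈ G, ∀ j, 2 ≤ j → LambdaOps.lam j w = 0) ∧ Commutes f ∧ Function.Injective f ∧
      f x ∈ AddSubgroup.closure (G : Set L) ∧ f y ∈ AddSubgroup.closure (G : Set L)) : IsSpecial K where
  lam_one_eq_zero := h1
  lam_mul n Pn hPn x y := by
    obtain ⟨L, _, _, G, f, hG, hf, hinj, hx, hy⟩ := h x y
    obtain ⟨X, hX⟩ := mem_range_gEval G hx
    obtain ⟨Y, hY⟩ := mem_range_gEval G hy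
    have hc := commutes_gEval G hG
    refine hinj ?_
    rw [hf, map_mul, ringHom_aeval, ← hX, ← hY, ← map_mul, ← hc,
      (isSpecial_LK ℤ _).lam_mul n Pn hPn, ringHom_aeval]
    congr 2
    funext i
    rcases i with i | i <;> simp only [Sum.elim_inl, Sum.elim_inr]
    · rw [hc, hX]; exact (hf _ x).symm
    · rw [hc, hY]; exact (hf _ y).symm
  lam_lam i j Q hQ x := by
    obtain ⟨L, _, _, G, f, hG, hf, hinj, hx, -⟩ := h x x
    obtain ⟨X, hX⟩ := mem_range_gEval G hx
    have hc := commutes_gEval G hG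
    refine hinj ?_
    rw [hf, hf, ringHom_aeval, ← hX, ← hc, ← hc, (isSpecial_LK ℤ _).lam_lam i j Q hQ, ringHom_aeval]
    congr 2
    funext k
    rw [hc, hX]; exact (hf _ x).symm

attribute [local instance] ModelK.kRing ModelK.kLam

theorem mem_closure_cl {S : Scheme.{u}} {H : AddSubgroup (SGA6.Kvb S)}
    (h : ∀ E, FlatMod.IsFinLocFree E → KRR.cl S E ∈ H) (x : SGA6.Kvb S) : x ∈ H :=
  (QuotientAddGroup.eq_zero_iff x).1 (DFunLike.congr_fun
    (K0Sub.hom_ext (P := KRR.vbP S) (f := QuotientAddGroup.mk' H) (g := 0)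
      fun E hE => (QuotientAddGroup.eq_zero_iff _).2 (h E hE)) x)

/-- The subgroup on which a ring map commutes with `λ`. -/
theorem commutes_of_cl {S : Scheme.{u}} {L : Type (u + 1)} [CommRing L] [LambdaOps L] {f : SGA6.Kvb S →+* L}
    (h : ∀ E, FlatMod.IsFinLocFree E → ∀ n, f (LambdaOps.lam n (KRR.cl S E)) = LambdaOps.lam n (f (KRR.cl S E))) :
    Commutes f := fun n x =>
  mem_closure_cl (H := commutesAddSubgroup f) (fun E hE k => h E hE k) x n

/-- The pullback as a ring map. -/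
theorem exists_pullRing {S S' : Scheme.{u}} (g : S' ⟶ S) {p : SGA6.Kvb S →+ SGA6.Kvb S'}
    (hp : ∀ E, FlatMod.IsFinLocFree E → p (KRR.cl S E) = KRR.cl S' ((Scheme.Modules.pullback g).obj E)) :
    ∃ f : SGA6.Kvb S →+* SGA6.Kvb S', (∀ x, f x = p x) ∧ Commutes f := by
  have hone : p 1 = 1 := by
    show p (KRR.cl S (Coh.structureModule S)) = KRR.cl S' (Coh.structureModule S')
    rw [hp _ ModelK.isFinLocFree_structure]
    exact PBFree17.cl_iso (OX.pullUnitIso g) (OX.isFinLocFree_pullback g ModelK.isFinLocFree_structure)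
  have hmul : ∀ a b, p (a * b) = p a * p b := fun a b => by
    have key : ∀ A, FlatMod.IsFinLocFree A → ∀ b, p (KRR.cl S A * b) = p (KRR.cl S A) * p b := fun A hA b =>
      DFunLike.congr_fun (K0Sub.hom_ext (P := KRR.vbP S) (f := p.comp (AddMonoidHom.mulLeft (KRR.cl S A)))
        (g := (AddMonoidHom.mulLeft (p (KRR.cl S A))).comp p) fun B hB => by
        show p (KRR.cl S A * KRR.cl S B) = p (KRR.cl S A) * p (KRR.cl S B)
        rw [ModelK.cl_mul hA hB, hp _ (ModelK.isFinLocFree_tensorMod hA hB), hp A hA, hp B hB,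
          ModelK.cl_mul (OX.isFinLocFree_pullback g hA) (OX.isFinLocFree_pullback g hB)]
        exact PBFree17.cl_iso (OX.pullTensorIso g A B)
          (OX.isFinLocFree_pullback g (ModelK.isFinLocFree_tensorMod hA hB))) b
    exact DFunLike.congr_fun (K0Sub.hom_ext (P := KRR.vbP S) (f := p.comp (AddMonoidHom.mulRight b))
      (g := (AddMonoidHom.mulRight (p b)).comp p) fun A hA => key A hA b) a
  let f : SGA6.Kvb S →+* SGA6.Kvb S' :=
    { toFun := p, map_one' := hone, map_mul' := hmul, map_zero' := map_zero p, map_add' := map_add p }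
  refine ⟨f, fun _ => rfl, commutes_of_cl fun E hE n => ?_⟩
  show p _ = LambdaOps.lam n (p _)
  rw [ModelK.lam_cl' hE (ExtPowX.isExtPow_wedge hE n), hp _ (ExtPowX.isFinLocFree_wedge hE n), hp E hE,
    ModelK.lam_cl' (OX.isFinLocFree_pullback g hE) (ExtPowX.isExtPow_pullback g hE (ExtPowX.isExtPow_wedge hE n))]

/-- The submonoid of thin classes. -/
def thinMonoid (S : Scheme.{u}) : Submonoid (SGA6.Kvb S) where
  carrier := G S
  one_mem' := ⟨Coh.structureModule S, ⟨ModelK.isFinLocFree_structure, fun y => (PBFree17.rk_structure y).le⟩, rfl⟩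
  mul_mem' := by
    rintro _ _ ⟨M, hM, rfl⟩ ⟨N, hN, rfl⟩
    refine ⟨CohB1.tensorMod M N, ⟨ModelK.isFinLocFree_tensorMod hM.1 hN.1, fun y => ?_⟩, ?_⟩
    · rw [PBFree17.rk_tensor hM.1 hN.1 y]
      exact Nat.mul_le_mul (hM.2 y) (hN.2 y)
    · exact (ModelK.cl_mul hM.1 hN.1).symm

theorem lam_thin {S : Scheme.{u}} {x : SGA6.Kvb S} (hx : x ∈ thinMonoid S) (j : ℕ) (hj : 2 ≤ j) :
    LambdaOps.lam j x = 0 := by
  obtain ⟨M, hM, rfl⟩ := hx
  rw [ModelK.lam_cl' hM.1 (ExtPowX.isExtPow_wedge hM.1 j)]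
  exact K0Sub.clSub_isZero (rk_wedge_eq_zero hM hj)

/-- `K` of a quasi-compact scheme is special. -/
theorem isSpecial_of_bijective {S : Scheme.{u}} [CompactSpace S] {K : Type v} [CommRing K] [LambdaOps K]
    (φ : SGA6.Kvb S →+ K) (hφ : Function.Bijective φ) (h1 : φ (KRR.cl S (Coh.structureModule S)) = 1)
    (hmul : ∀ E F : S.Modules, FlatMod.IsFinLocFree E → FlatMod.IsFinLocFree F →
      φ (KRR.cl S E) * φ (KRR.cl S F) = φ (KRR.cl S (CohB1.tensorMod E F)))
    (hlam : ∀ (i : ℕ) (E L : S.Modules), FlatMod.IsFinLocFree E → FlatMod.IsFinLocFree L →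
      ExtPow.IsExtPow i E L → LambdaOps.lam i (φ (KRR.cl S E)) = φ (KRR.cl S L)) : IsSpecial K := by
  have hmul' : ∀ a b, φ (a * b) = φ a * φ b := fun a b => by
    have key : ∀ A, FlatMod.IsFinLocFree A → ∀ b, φ (KRR.cl S A * b) = φ (KRR.cl S A) * φ b := fun A hA b =>
      DFunLike.congr_fun (K0Sub.hom_ext (P := KRR.vbP S) (f := φ.comp (AddMonoidHom.mulLeft (KRR.cl S A)))
        (g := (AddMonoidHom.mulLeft (φ (KRR.cl S A))).comp φ) fun B hB => by
        show φ (KRR.cl S A * KRR.cl S B) = φ (KRR.cl S A) * φ (KRR.cl S B)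
        rw [ModelK.cl_mul hA hB, hmul A B hA hB]) b
    exact DFunLike.congr_fun (K0Sub.hom_ext (P := KRR.vbP S) (f := φ.comp (AddMonoidHom.mulRight b))
      (g := (AddMonoidHom.mulRight (φ b)).comp φ) fun A hA => key A hA b) a
  let Φ : SGA6.Kvb S ≃+* K := { AddEquiv.ofBijective φ hφ with map_mul' := hmul' }
  have hΦ : ∀ x, Φ x = φ x := fun _ => rfl
  have hc : ∀ n x, Φ (LambdaOps.lam n x) = LambdaOps.lam n (Φ x) := fun n x =>
    mem_closure_cl (H := commutesAddSubgroup (Φ : SGA6.Kvb S →+* K)) (fun E hE k => by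
      show φ _ = LambdaOps.lam k (φ _)
      rw [ModelK.lam_cl' hE (ExtPowX.isExtPow_wedge hE k),
        hlam k E _ hE (ExtPowX.isFinLocFree_wedge hE k) (ExtPowX.isExtPow_wedge hE k)]) x n
  have hc' : Commutes (Φ.symm : K →+* SGA6.Kvb S) := fun n a => Φ.injective (by
    show Φ (Φ.symm _) = Φ (LambdaOps.lam n (Φ.symm a))
    rw [hc, RingEquiv.apply_symm_apply, RingEquiv.apply_symm_apply])
  refine isSpecial_of_split.{v, u} (fun j hj => ?_) fun x y => ?_
  · have h := hc j 1
    rw [map_one] at h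
    rw [← h, lam_thin (one_mem (thinMonoid S)) j hj, map_zero]
  · obtain ⟨S₂, g, p, hp, hinj, hx, hy⟩ := exists_split_pair (Φ.symm x) (Φ.symm y)
    obtain ⟨f, hf, hfc⟩ := exists_pullRing g hp
    refine ⟨SGA6.Kvb S₂, inferInstance, inferInstance, thinMonoid S₂, f.comp (Φ.symm : K →+* SGA6.Kvb S),
      fun w hw => lam_thin hw, fun n a => ?_, ?_, ?_, ?_⟩
    · show f (Φ.symm _) = LambdaOps.lam n (f (Φ.symm a))
      rw [← hfc]
      exact congrArg f (hc' n a)
    · exact fun a b hab => Φ.symm.injective (hinj (by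
        change f (Φ.symm a) = f (Φ.symm b) at hab
        rwa [hf, hf] at hab))
    · show f (Φ.symm x) ∈ _
      rw [hf]; exact hx
    · show f (Φ.symm y) ∈ _
      rw [hf]; exact hy

end GrothLib.Special17
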