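import Groth.Agent.Lib.PBFree17.FromPB
import Groth.Agent.Lib.PBDeg17.Exists
import Groth.Agent.Lib.ExtPowX.Pullback
import Groth.Agent.Lib.ModelK.Exists
import Groth.Agent.Lib.FLFPush9.Basic

/-!
# Splitting of classes of bundles on quasi-compact schemes
-/

set_option autoImplicit false
set_option backward.isDefEq.respectTransparency false
set_option linter.style.haveILetI false

universe u

open AlgebraicGeometry CategoryTheory CategoryTheory.Limits TopologicalSpace Opposite

noncomputable section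

namespace GrothLib.Special17

open PBFree17 (rk rk_congr rk_structure rk_add rk_tensor free_stalk cl_iso)

variable {S : Scheme.{u}}

/-- Locally free modules of rank at most one. -/
def Thin (M : S.Modules) : Prop := FlatMod.IsFinLocFree M ∧ ∀ y, rk y M ≤ 1

theorem isFinLocFreeOfRank_of_rk {E : S.Modules} (hE : FlatMod.IsFinLocFree E) {r : ℕ} (h : ∀ y, rk y E = r) :
    FlatMod.IsFinLocFreeOfRank r E := fun y => by
  obtain ⟨D, k, e, hy, he⟩ := FinCov.exists_frame_nhd hE y
  obtain ⟨b⟩ := Euler.stalk_basis_of_frame he hy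
  obtain rfl : k = r := by
    have := Module.finrank_eq_card_basis b
    rw [Fintype.card_fin] at this
    exact this.symm.trans (h y)
  exact ⟨D, hy, FinCov.exists_iso_of_frame he⟩

theorem rk_of_isFinLocFreeOfRank {E : S.Modules} {r : ℕ} (hE : FlatMod.IsFinLocFreeOfRank r E) (y : S) :
    rk y E = r := by
  obtain ⟨D, e, hy, he⟩ := FinCov.exists_frame_nhd_of_rank hE y
  obtain ⟨b⟩ := Euler.stalk_basis_of_frame he hy
  exact (Module.finrank_eq_card_basis b).trans (Fintype.card_fin r)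

theorem rk_pullback {S' : Scheme.{u}} (f : S' ⟶ S) {E : S.Modules} (hE : FlatMod.IsFinLocFree E) (y : S') :
    rk y ((Scheme.Modules.pullback f).obj E) = rk (f y) E :=
  FibModLocus10.finrank_pullback f E y (free_stalk hE _)

theorem thin_pullback {S' : Scheme.{u}} (f : S' ⟶ S) {M : S.Modules} (h : Thin M) :
    Thin ((Scheme.Modules.pullback f).obj M) :=
  ⟨OX.isFinLocFree_pullback f h.1, fun y => by rw [rk_pullback f h.1]; exact h.2 _⟩

theorem rk_wedge_eq_zero {M : S.Modules} (h : Thin M) {j : ℕ} (hj : 2 ≤ j) :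
    IsZero (ExtPowX.wedge M j) := by
  refine OX.isZero_of_subsingleton_stalks _ fun y => ?_
  obtain ⟨D, k, e, hy, he⟩ := FinCov.exists_frame_nhd h.1 y
  obtain ⟨b⟩ := Euler.stalk_basis_of_frame he hy
  have hk : k ≤ 1 := by
    have := Module.finrank_eq_card_basis b
    rw [Fintype.card_fin] at this
    rw [← this]
    exact h.2 y
  obtain ⟨c⟩ := Euler.stalk_basis_of_frame (ExtPowX.isFrame_wedge he j) hy
  have hcard : Fintype.card (Set.powersetCard (Fin k) j) = 0 := by
    rw [← Nat.card_eq_fintype_card, Set.powersetCard.card, Nat.card_fin, Nat.choose_eq_zero_of_lt (by omega)]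
  haveI : IsEmpty (Fin (Fintype.card (Set.powersetCard (Fin k) j))) := by rw [hcard]; infer_instance
  exact c.repr.toEquiv.subsingleton

/-- The structure sheaf of a clopen. -/
theorem exists_clopen_module (U : S.Opens) (hc : IsClosed (U : Set S)) :
    ∃ L : S.Modules, FlatMod.IsFinLocFree L ∧ (∀ y ∈ U, rk y L = 1) ∧ ∀ y, y ∉ U → rk y L = 0 := by
  haveI : IsClosedImmersion U.ι := IsClosedImmersion.of_isPreimmersion _ (by rw [Scheme.Opens.range_ι]; exact hc)
  let L := (Scheme.Modules.pushforward U.ι).obj (Coh.structureModule (U : Scheme.{u}))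
  have hL : FlatMod.IsFinLocFree L := FLFPush9.isFinLocFree_pushforward U.ι
  refine ⟨L, hL, fun y hy => ?_, fun y hy => ?_⟩
  · obtain ⟨z, rfl⟩ : y ∈ Set.range U.ι := by rw [Scheme.Opens.range_ι]; exact hy
    rw [← rk_pullback U.ι hL z]
    refine (rk_congr (((Scheme.Modules.restrictFunctorIsoPullback U.ι).app L).symm ≪≫
      asIso ((Scheme.Modules.restrictAdjunction U.ι).counit.app (Coh.structureModule (U : Scheme.{u})))) z).trans ?_
    exact rk_structure z
  · let V : S.Opens := ⟨(U : Set S)ᶜ, hc.isOpen_compl⟩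
    have hbot : U.ι ⁻¹ᵁ V = ⊥ := by
      ext z
      simp only [Scheme.Hom.coe_preimage, Set.mem_preimage, Opens.coe_bot, Set.mem_empty_iff_false, iff_false]
      exact fun hz => hz z.2
    haveI : Subsingleton (L.presheaf.stalk y) := ⟨fun a b => by
      have key : ∀ c : L.presheaf.stalk y, c = 0 := fun c => by
        obtain ⟨W, hW, t, rfl⟩ := TopCat.Presheaf.exists_germ_eq L.presheaf c
        rw [← TopCat.Presheaf.germ_res_apply L.presheaf (homOfLE (inf_le_left : W ⊓ V ≤ W)) y ⟨hW, hy⟩ t]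
        have hsub : Subsingleton Γ(L, W ⊓ V) := by
          refine InvExt.subsingleton_sections_of_eq_bot (Coh.structureModule (U : Scheme.{u})) (W := U.ι ⁻¹ᵁ (W ⊓ V)) ?_
          rw [Scheme.Hom.preimage_inf, hbot, inf_bot_eq]
        rw [Subsingleton.elim (L.presheaf.map (homOfLE (inf_le_left : W ⊓ V ≤ W)).op t) 0, map_zero]
      rw [key a, key b]⟩
    exact Module.finrank_zero_of_subsingleton

theorem isLocallyConstant_rk {E : S.Modules} (hE : FlatMod.IsFinLocFree E) : IsLocallyConstant (fun y => rk y E) :=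
  (IsLocallyConstant.iff_exists_open _).2 fun y => by
    obtain ⟨D, k, e, hy, he⟩ := FinCov.exists_frame_nhd hE y
    refine ⟨D, D.2, hy, fun z hz => ?_⟩
    obtain ⟨b⟩ := Euler.stalk_basis_of_frame he hy
    obtain ⟨c⟩ := Euler.stalk_basis_of_frame he hz
    exact (Module.finrank_eq_card_basis c).trans (Module.finrank_eq_card_basis b).symm

theorem rk_biprod {A B : S.Modules} (hA : FlatMod.IsFinLocFree A) (hB : FlatMod.IsFinLocFree B) (y : S) :
    rk y (A ⊞ B) = rk y A + rk y B :=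
  rk_add (S := ShortComplex.mk (biprod.inl : A ⟶ A ⊞ B) biprod.snd biprod.inl_snd)
    (ShortComplex.Splitting.ofHasBinaryBiproduct _ _).shortExact hA (DCoh.isFinLocFree_biprod hA hB) hB y

variable (S) in
/-- The classes of thin modules. -/
def G : Set (SGA6.Kvb S) := {x | ∃ M, Thin M ∧ KRR.cl S M = x}

/-- A bundle is a bundle of constant rank up to thin modules. -/
theorem exists_constRank {m : ℕ} : ∀ (d : ℕ) {E : S.Modules}, FlatMod.IsFinLocFree E → (∀ y, rk y E ≤ m) →
    (∀ y, m ≤ rk y E + d) → ∃ E' : S.Modules, FlatMod.IsFinLocFreeOfRank m E' ∧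
      KRR.cl S E' - KRR.cl S E ∈ AddSubgroup.closure (G S) := by
  intro d
  induction d with
  | zero =>
    intro E hE h1 h2
    exact ⟨E, isFinLocFreeOfRank_of_rk hE fun y => le_antisymm (h1 y) (by simpa using h2 y),
      by rw [sub_self]; exact zero_mem _⟩
  | succ d ih =>
    intro E hE h1 h2
    let U : S.Opens := ⟨(fun y => rk y E) ⁻¹' {k | k < m}, (isLocallyConstant_rk hE) _⟩
    have hc : IsClosed (U : Set S) := by
      rw [← isOpen_compl_iff]
      exact (isLocallyConstant_rk hE) {k | k < m}ᶜ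
    obtain ⟨L, hL, hin, hout⟩ := exists_clopen_module U hc
    have hsum : ∀ y, rk y (E ⊞ L) ≤ m ∧ m ≤ rk y (E ⊞ L) + d := fun y => by
      rw [rk_biprod hE hL y]
      have := h1 y
      have := h2 y
      by_cases hy : rk y E < m
      · rw [hin y hy]; omega
      · rw [hout y hy]; omega
    obtain ⟨E', hE', hcl⟩ := ih (DCoh.isFinLocFree_biprod hE hL) (fun y => (hsum y).1) (fun y => (hsum y).2)
    refine ⟨E', hE', ?_⟩
    have hthin : Thin L := ⟨hL, fun y => by
      by_cases hy : y ∈ U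
      · rw [hin y hy]
      · rw [hout y hy]; omega⟩
    have := add_mem hcl (AddSubgroup.subset_closure (k := G S) ⟨L, hthin, rfl⟩)
    rwa [show KRR.cl S (E ⊞ L) = KRR.cl S E + KRR.cl S L from K0Sub.clSub_add (P := KRR.vbP S)
      (S := ShortComplex.mk (biprod.inl : E ⟶ E ⊞ L) biprod.snd biprod.inl_snd)
      (ShortComplex.Splitting.ofHasBinaryBiproduct _ _).shortExact hE (DCoh.isFinLocFree_biprod hE hL) hL, show KRR.cl S E' - (KRR.cl S E + KRR.cl S L) + KRR.cl S L =
      KRR.cl S E' - KRR.cl S E by abel] at this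

theorem closure_map {S' : Scheme.{u}} (f : S' ⟶ S) {p : SGA6.Kvb S →+ SGA6.Kvb S'}
    (hp : ∀ E, FlatMod.IsFinLocFree E → p (KRR.cl S E) = KRR.cl S' ((Scheme.Modules.pullback f).obj E))
    {x : SGA6.Kvb S} (hx : x ∈ AddSubgroup.closure (G S)) : p x ∈ AddSubgroup.closure (G S') := by
  refine (AddSubgroup.closure_le (K := (AddSubgroup.closure (G S')).comap p)).2 ?_ hx
  rintro _ ⟨M, hM, rfl⟩
  exact AddSubgroup.subset_closure ⟨_, thin_pullback f hM, (hp M hM.1).symm⟩

theorem pull_comp {S₁ S₂ : Scheme.{u}} (f : S₁ ⟶ S) (g : S₂ ⟶ S₁) {p : SGA6.Kvb S →+ SGA6.Kvb S₁}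
    (hp : ∀ E, FlatMod.IsFinLocFree E → p (KRR.cl S E) = KRR.cl S₁ ((Scheme.Modules.pullback f).obj E))
    {p' : SGA6.Kvb S₁ →+ SGA6.Kvb S₂}
    (hp' : ∀ E, FlatMod.IsFinLocFree E → p' (KRR.cl S₁ E) = KRR.cl S₂ ((Scheme.Modules.pullback g).obj E))
    {E : S.Modules} (hE : FlatMod.IsFinLocFree E) :
    p'.comp p (KRR.cl S E) = KRR.cl S₂ ((Scheme.Modules.pullback (g ≫ f)).obj E) := by
  show p' (p (KRR.cl S E)) = _
  rw [hp E hE, hp' _ (OX.isFinLocFree_pullback f hE)]
  exact cl_iso ((Scheme.Modules.pullbackComp g f).app E) (OX.isFinLocFree_pullback _ (OX.isFinLocFree_pullback _ hE))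

/-- A quasi-compact scheme over `S` on which `x` is a sum of thin classes. -/
def Splits (x : SGA6.Kvb S) : Prop :=
  ∀ (S₁ : Scheme.{u}) (_ : CompactSpace S₁) (f : S₁ ⟶ S) (p : SGA6.Kvb S →+ SGA6.Kvb S₁),
    (∀ E, FlatMod.IsFinLocFree E → p (KRR.cl S E) = KRR.cl S₁ ((Scheme.Modules.pullback f).obj E)) →
    ∃ (S₂ : Scheme.{u}) (_ : CompactSpace S₂) (g : S₂ ⟶ S₁) (p' : SGA6.Kvb S₁ →+ SGA6.Kvb S₂),
      (∀ E, FlatMod.IsFinLocFree E → p' (KRR.cl S₁ E) = KRR.cl S₂ ((Scheme.Modules.pullback g).obj E)) ∧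
      Function.Injective p' ∧ p' (p x) ∈ AddSubgroup.closure (G S₂)

/-- A bundle of constant rank splits. -/
theorem exists_split_rank : ∀ (m : ℕ) (T : Scheme.{u}) [CompactSpace T] (E : T.Modules),
    FlatMod.IsFinLocFreeOfRank m E →
    ∃ (S₂ : Scheme.{u}) (_ : CompactSpace S₂) (g : S₂ ⟶ T) (p' : SGA6.Kvb T →+ SGA6.Kvb S₂),
      (∀ E, FlatMod.IsFinLocFree E → p' (KRR.cl T E) = KRR.cl S₂ ((Scheme.Modules.pullback g).obj E)) ∧
      Function.Injective p' ∧ p' (KRR.cl T E) ∈ AddSubgroup.closure (G S₂) := by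
  intro m
  induction m with
  | zero =>
    intro T _ E hE
    refine ⟨T, inferInstance, 𝟙 T, AddMonoidHom.id _, fun A hA =>
      cl_iso ((Scheme.Modules.pullbackId T).app A).symm hA, fun _ _ h => h, AddSubgroup.subset_closure ?_⟩
    exact ⟨E, ⟨FinCov.isFinLocFree_of_rank hE, fun y => by rw [rk_of_isFinLocFreeOfRank hE]; omega⟩, rfl⟩
  | succ r ih =>
    intro T _ E hE
    obtain ⟨X', π, O1, q, hPB, -, hπ⟩ := PBDeg.exists_isProjBundle hE
    haveI := hπ
    haveI : CompactSpace X' := QuasiCompact.compactSpace_of_compactSpace π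
    have hO := PBDeg.rankOne_iff.1 hPB.invertible
    obtain ⟨Oinv, hI, hmul⟩ := VA.exists_inverse hO
    have hinv : ClSub.IsInverseOf Oinv O1 :=
      (Cube.clsMod_eq_one_iff (Ample.isInvertible_tensorMod hI hO)).1 (by
        rw [Cube.clsMod_tensorMod hI hO, hmul, inv_mul_cancel])
    obtain ⟨Z, -, -⟩ := PBFree17.exists_setup hE hPB hinv
    obtain ⟨o⟩ := Z.nonempty_ops
    have hq : Function.Injective o.q := fun a b hab => by
      have := o.bijective.1 (a₁ := Pi.single 0 a) (a₂ := Pi.single 0 b) (by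
        show ∑ i : Fin (r + 1), _ = ∑ i : Fin (r + 1), _
        rw [Finset.sum_eq_single (0 : Fin (r + 1)) (fun i _ hi => by rw [Pi.single_eq_of_ne hi, map_zero, map_zero])
            (fun h => absurd (Finset.mem_univ _) h),
          Finset.sum_eq_single (0 : Fin (r + 1)) (fun i _ hi => by rw [Pi.single_eq_of_ne hi, map_zero, map_zero])
            (fun h => absurd (Finset.mem_univ _) h), Pi.single_eq_same, Pi.single_eq_same]
        exact congrArg _ hab)
      simpa using congrFun this 0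
    haveI := hPB.epi
    have hE' := FinCov.isFinLocFree_of_rank hE
    have hpE := OX.isFinLocFree_pullback π hE'
    have hO' := FinCov.isFinLocFree_of_rank hPB.invertible
    have hF : FlatMod.IsFinLocFree (kernel q) := OX.isFinLocFree_kernel q hpE hO'
    have hFr : FlatMod.IsFinLocFreeOfRank r (kernel q) := isFinLocFreeOfRank_of_rk hF fun y => by
      have h := rk_add (K0Sub.shortExact_kernel q) hF hpE hO' y
      change rk y ((Scheme.Modules.pullback π).obj E) = rk y (kernel q) + rk y O1 at h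
      rw [rk_pullback π hE', rk_of_isFinLocFreeOfRank hE, rk_of_isFinLocFreeOfRank hPB.invertible] at h
      omega
    obtain ⟨S₂, hS₂, g, p', hp', hinj, hmem⟩ := ih X' (kernel q) hFr
    refine ⟨S₂, hS₂, g ≫ π, p'.comp o.q, fun A hA => pull_comp π g o.hq hp' hA, hinj.comp hq, ?_⟩
    show p' (o.q (KRR.cl T E)) ∈ _
    rw [o.hq E hE', show KRR.cl X' ((Scheme.Modules.pullback π).obj E) = KRR.cl X' (kernel q) + KRR.cl X' O1 from
      K0Sub.clSub_add (P := KRR.vbP X') (K0Sub.shortExact_kernel q) hF hpE hO', map_add]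
    exact add_mem hmem (closure_map g hp' (AddSubgroup.subset_closure
      ⟨O1, ⟨hO', fun y => by rw [rk_of_isFinLocFreeOfRank hPB.invertible]⟩, rfl⟩))

theorem splits_all (x : SGA6.Kvb S) : Splits x := by
  let H : AddSubgroup (SGA6.Kvb S) :=
    { carrier := {x | Splits x}
      zero_mem' := fun S₁ hS₁ f p hp => ⟨S₁, hS₁, 𝟙 S₁, AddMonoidHom.id _,
        fun A hA => cl_iso ((Scheme.Modules.pullbackId S₁).app A).symm hA, fun _ _ h => h, by
          rw [map_zero, map_zero]; exact zero_mem _⟩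
      add_mem' := fun {a b} ha hb S₁ hS₁ f p hp => by
        obtain ⟨S₂, hS₂, g, p', hp', hi', ha'⟩ := ha S₁ hS₁ f p hp
        obtain ⟨S₃, hS₃, g', p'', hp'', hi'', hb'⟩ := hb S₂ hS₂ (g ≫ f) (p'.comp p) fun A hA => pull_comp f g hp hp' hA
        refine ⟨S₃, hS₃, g' ≫ g, p''.comp p', fun A hA => pull_comp g g' hp' hp'' hA, hi''.comp hi', ?_⟩
        show p'' (p' (p (a + b))) ∈ _
        rw [map_add, map_add, map_add]
        exact add_mem (closure_map g' hp'' ha') hb'
      neg_mem' := fun {a} ha S₁ hS₁ f p hp => by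
        obtain ⟨S₂, hS₂, g, p', hp', hi', ha'⟩ := ha S₁ hS₁ f p hp
        exact ⟨S₂, hS₂, g, p', hp', hi', by rw [map_neg, map_neg]; exact neg_mem ha'⟩ }
  have hall : (QuotientAddGroup.mk' H) = 0 := K0Sub.hom_ext (P := KRR.vbP S) fun E hE => by
    refine (QuotientAddGroup.eq_zero_iff _).2 fun S₁ hS₁ f p hp => ?_
    haveI := hS₁
    rw [hp E hE]
    have hE₁ := OX.isFinLocFree_pullback f hE
    obtain ⟨m, hm⟩ : ∃ m, ∀ y, rk y ((Scheme.Modules.pullback f).obj E) ≤ m := by
      obtain ⟨m, hm⟩ := (isLocallyConstant_rk hE₁).range_finite.bddAbove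
      exact ⟨m, fun y => hm ⟨y, rfl⟩⟩
    obtain ⟨E', hE', hcl⟩ := exists_constRank m hE₁ hm (fun y => Nat.le_add_left _ _)
    obtain ⟨S₂, hS₂, g, p', hp', hi', hmem⟩ := exists_split_rank m S₁ E' hE'
    refine ⟨S₂, hS₂, g, p', hp', hi', ?_⟩
    have := sub_mem hmem (closure_map g hp' hcl)
    rwa [← map_sub, sub_sub_cancel] at this
  exact (QuotientAddGroup.eq_zero_iff x).1 (DFunLike.congr_fun hall x)

/-- Two classes split after an injective pullback. -/
theorem exists_split_pair [CompactSpace S] (x y : SGA6.Kvb S) :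
    ∃ (S₂ : Scheme.{u}) (g : S₂ ⟶ S) (p : SGA6.Kvb S →+ SGA6.Kvb S₂),
      (∀ E, FlatMod.IsFinLocFree E → p (KRR.cl S E) = KRR.cl S₂ ((Scheme.Modules.pullback g).obj E)) ∧
      Function.Injective p ∧ p x ∈ AddSubgroup.closure (G S₂) ∧ p y ∈ AddSubgroup.closure (G S₂) := by
  have hid : ∀ A, FlatMod.IsFinLocFree A →
      AddMonoidHom.id _ (KRR.cl S A) = KRR.cl S ((Scheme.Modules.pullback (𝟙 S)).obj A) := fun A hA =>
    cl_iso ((Scheme.Modules.pullbackId S).app A).symm hA
  obtain ⟨S₂, hS₂, g, p, hp, hi, hx⟩ := splits_all x S inferInstance (𝟙 S) _ hid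
  obtain ⟨S₃, hS₃, g', p', hp', hi', hy⟩ := splits_all y S₂ hS₂ g p hp
  exact ⟨S₃, g' ≫ g, p'.comp p, fun A hA => pull_comp g g' hp hp' hA, hi'.comp hi, closure_map g' hp' hx, hy⟩

end GrothLib.Special17
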